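import Cfsg.Agent.Lib.MXE.HB
import Cfsg.Agent.Lib.PSL2.DicksonClosed

/-!
# A two-dimensional representation generated by two homologies (S5267, file 8)
-/

set_option autoImplicit false
set_option linter.unusedSectionVars false

namespace Cfsg.Lib.MXE

open Module Subgroup Cfsg.Lib Cfsg.Lib.MCF Cfsg.Lib.PSL2 Matrix
open scoped MatrixGroups LinearAlgebra.Projectivization

variable {K : Type*} [Field K] {J : Type*} [Group J] [Finite J] {h h' v : J}
  {φ : J →* GL (Fin 2) K} {l t : K}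

/-- The eigenlines of `φ h ^ i` are those of `![1, 0]`, `![t - 1, 1]`, the eigenlines of `φ h' ^ i`
are those of `![0, 1]`, `![1, -1]` (for `l ^ i ≠ 1`). -/
structure Two (φ : J →* GL (Fin 2) K) (h h' : J) (l t : K) : Prop where
  e1 : (φ h).1 = !![l, (l - 1) * (1 - t); 0, 1]
  e2 : (φ h').1 = !![1, 0; l - 1, l]
  t0 : t ≠ 0
  t1 : t ≠ 1
  ord : 6 ≤ orderOf l

theorem two_eig (x : P1 K) : ∃ m : Fin 2 → K, m ≠ 0 ∧ ∀ g : GL (Fin 2) K, g • x = x → ∃ a : K, g.1 *ᵥ m = a • m := by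
  rcases eq_inf_or_eq_pt x with rfl | ⟨y, rfl⟩
  · refine ⟨![1, 0], by simp, fun g e => ⟨g 0 0, funext (Fin.forall_fin_two.2 ?_)⟩⟩
    simpa [mulVec, dotProduct] using (gl_smul_inf_eq_inf g).1 e
  · refine ⟨![y, 1], by simp, fun g e => ⟨g 1 0 * y + g 1 1, funext (Fin.forall_fin_two.2 ?_)⟩⟩
    simpa [mulVec, dotProduct, mul_comm] using (gl_smul_pt_eq_pt g y y).1 e

theorem two_line {N : Matrix (Fin 2) (Fin 2) K} (N0 : N ≠ 0) {m m' : Fin 2 → K} (hm : m ≠ 0) (e : N *ᵥ m = 0)
    (e' : N *ᵥ m' = 0) : ∃ a : K, m' = a • m := by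
  have d : m 0 * m' 1 - m 1 * m' 0 = 0 := by_contra fun d => N0 (Matrix.ext fun i => by
    have a := congrFun e i
    have b := congrFun e' i
    simp only [mulVec, dotProduct, Fin.sum_univ_two, Pi.zero_apply] at a b
    exact Fin.forall_fin_two.2 ⟨(mul_eq_zero_iff_right d).1 (by linear_combination m' 1 * a - m 1 * b),
      (mul_eq_zero_iff_right d).1 (by linear_combination m 0 * b - m' 0 * a)⟩)
  by_cases a : m 0 = 0
  · have b : m 1 ≠ 0 := fun b => hm (funext (Fin.forall_fin_two.2 ⟨a, b⟩))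
    refine ⟨m' 1 / m 1, funext (Fin.forall_fin_two.2 ⟨?_, by simp [b]⟩)⟩
    rw [a, zero_mul, zero_sub, neg_eq_zero, mul_eq_zero_iff_left b] at d
    simp [a, d]
  · refine ⟨m' 0 / m 0, funext (Fin.forall_fin_two.2 ⟨by simp [a], ?_⟩)⟩
    simp only [Pi.smul_apply, smul_eq_mul]
    field_simp
    linear_combination d

namespace Two

variable (w : Two φ h h' l t)
include w

theorem pow1 (i : ℕ) : (φ (h ^ i)).1 = !![l ^ i, (l ^ i - 1) * (1 - t); 0, 1] := by
  induction i with
  | zero => simp [one_fin_two]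
  | succ i ih =>
    rw [pow_succ, map_mul, Units.val_mul, ih, w.e1, mul_fin_two]
    ext a b
    fin_cases a <;> fin_cases b <;> simp <;> ring

theorem pow2 (i : ℕ) : (φ (h' ^ i)).1 = !![1, 0; l ^ i - 1, l ^ i] := by
  induction i with
  | zero => simp [one_fin_two]
  | succ i ih =>
    rw [pow_succ, map_mul, Units.val_mul, ih, w.e2, mul_fin_two]
    ext a b
    fin_cases a <;> fin_cases b <;> simp <;> ring

/-- `φ h ^ 2 = !![l ^ 2, (l ^ 2 - 1) * (1 - t); 0, 1]`, `φ h' ^ 2 = !![1, 0; l ^ 2 - 1, l ^ 2]`,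
`l ^ 2 ≠ 1`. -/
theorem no_common {m : Fin 2 → K} (hm : m ≠ 0) {a b : K} (h1 : (φ (h ^ 2)).1 *ᵥ m = a • m)
    (h2 : (φ (h' ^ 2)).1 *ᵥ m = b • m) : False := by
  have n : l ^ 2 - 1 ≠ 0 := sub_ne_zero.2 (pow_ne_one_of_lt_orderOf two_ne_zero (by have := w.ord; omega))
  rw [w.pow1] at h1
  rw [w.pow2] at h2
  have a0 := congrFun h1 0
  have a1 := congrFun h1 1
  have b0 := congrFun h2 0
  have b1 := congrFun h2 1
  simp only [mulVec, dotProduct, Fin.sum_univ_two, of_apply, cons_val', cons_val_zero, cons_val_one, cons_val_fin_one,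
    Pi.smul_apply, smul_eq_mul] at a0 a1 b0 b1
  have y0 : m 1 ≠ 0 := fun e => hm (funext (Fin.forall_fin_two.2
    ⟨(mul_eq_zero_iff_left n).1 (by linear_combination b1 + (b - l ^ 2) * e), e⟩))
  obtain rfl : 1 = a := mul_right_cancel₀ y0 (by linear_combination a1)
  have x0 : m 0 = (t - 1) * m 1 := mul_left_cancel₀ n (by linear_combination a0)
  obtain rfl : 1 = b := mul_right_cancel₀ (x0 ▸ mul_ne_zero (sub_ne_zero.2 w.t1) y0) (by linear_combination b0)
  exact mul_ne_zero n (mul_ne_zero w.t0 y0) (by linear_combination b1 - (l ^ 2 - 1) * x0)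

/-- Let `J'` be the image of `J` in `PGL(2, K)`. `dickson_regular`: a fixed point or a stable pair
of points gives a point fixed by the squares of `h` and `h'` (`no_common`); the image of `h` has
order `orderOf l ≥ 6` (`φ h ^ i` is scalar iff `l ^ i = 1`), while elements of `A₄, S₄, A₅` have
order at most `5` (`decide`-able: `g ^ 4 = 1 ∨ g ^ 3 = 1`, `g ^ 2 = 1 ∨ g ^ 3 = 1 ∨ g ^ 5 = 1`).
So some `g` has a non-trivial image in `unip x`, of order `p`; with `orderOf g = p ^ r * m`,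
`v = g ^ m` has `p`-power order and non-trivial image, and `orderOf v = p` as `p ^ 2` does not
divide the order. -/
theorem exists_p [IsAlgClosed K] {p : ℕ} [Fact p.Prime] [CharP K p] (hsq : ¬ p ^ 2 ∣ Nat.card J) :
    ∃ v : J, orderOf v = p ∧ φ v ≠ 1 := by
  let ψ : J →* PGL(2, K) := ProjGenLinGroup.mk.comp φ
  by_cases hu : ∀ x : P1 K, ψ.range ⊓ unip x = ⊥
  · exfalso
    have k : ∀ x : P1 K, ψ (h ^ 2) • x = x → ψ (h' ^ 2) • x = x → False := fun x a b => by
      obtain ⟨m, hm, e⟩ := two_eig x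
      obtain ⟨_, a⟩ := e _ ((pgl_mk_smul _ x).symm.trans a)
      obtain ⟨_, b⟩ := e _ ((pgl_mk_smul _ x).symm.trans b)
      exact w.no_common hm a b
    have o : ∀ {X : Type} [Group X] (e : ψ.range ≃* X) (n : ℕ), n ≠ 0 → n < 6 → e (ψ.rangeRestrict h) ^ n ≠ 1 :=
      fun e n a b c => by
        rw [← map_pow, EmbeddingLike.map_eq_one_iff, ← map_pow] at c
        have := ((pgl_mk_eq_one_iff (φ (h ^ n))).1 (congrArg Subtype.val c)).2.2
        change (φ (h ^ n)).1 0 0 = (φ (h ^ n)).1 1 1 at this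
        rw [w.pow1] at this
        exact pow_ne_one_of_lt_orderOf a (b.trans_le w.ord) this
    have s4 : ∀ g : Equiv.Perm (Fin 4), g ^ 4 = 1 ∨ g ^ 3 = 1 := by decide +kernel
    have a5 : ∀ g : Equiv.Perm (Fin 5), g.sign = 1 → g ^ 2 = 1 ∨ g ^ 3 = 1 ∨ g ^ 5 = 1 := by decide +kernel
    have : Finite ψ.range := .of_surjective _ ψ.rangeRestrict_surjective
    rcases dickson_regular ψ.range hu with ⟨x, a⟩ | ⟨x, y, -, a⟩ | ⟨⟨e⟩⟩ | ⟨⟨e⟩⟩ | ⟨⟨e⟩⟩
    · exact k x (a _ ⟨_, rfl⟩) (a _ ⟨_, rfl⟩)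
    · have : ∀ g, ψ (g ^ 2) • x = x := fun g => by
        rcases a _ ⟨g, rfl⟩ with b | b <;> simp only [map_pow, sq, map_mul, mul_smul, b.1, b.2]
      exact k x (this _) (this _)
    · exact (s4 _).elim (fun a => o e 4 (by norm_num) (by norm_num) (Subtype.ext a))
        fun a => o e 3 (by norm_num) (by norm_num) (Subtype.ext a)
    · exact (s4 _).elim (o e 4 (by norm_num) (by norm_num)) (o e 3 (by norm_num) (by norm_num))
    · rcases a5 _ (e (ψ.rangeRestrict h)).2 with a | a | a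
      all_goals exact o e _ (by norm_num) (by norm_num) (Subtype.ext a)
  obtain ⟨x, hx⟩ := not_forall.1 hu
  obtain ⟨⟨_, ⟨g, rfl⟩, m⟩, g1⟩ := ne_bot_iff_exists_ne_one.1 hx
  have o := orderOf_of_mem_unip p m fun e => g1 (Subtype.ext e)
  have d : p ∣ orderOf g := o ▸ orderOf_map_dvd ψ g
  refine ⟨_, orderOf_pow_orderOf_div (orderOf_pos g).ne' d, fun e => hsq (Dvd.dvd.trans ?_ (orderOf_dvd_natCard g))⟩
  rw [← Nat.div_mul_cancel d, sq]
  refine Nat.mul_dvd_mul_right (o.symm.dvd.trans (orderOf_dvd_of_pow_eq_one ?_)) p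
  rw [← map_pow]
  exact (congrArg ProjGenLinGroup.mk e).trans (map_one _)

/-- `N = φ v - 1 ≠ 0` has `N ^ p = 0`, so `N ^ 2 = 0` (nilpotent `2 × 2` matrix). If `zpowers v`
were normal, the line `ker N` (the fixed space of every generator of `zpowers v`) would be fixed
by `h` and `h'`. -/
theorem not_normal {p : ℕ} [Fact p.Prime] [CharP K p] (hv : orderOf v = p) (h1 : φ v ≠ 1) :
    ((φ v).1 - 1) ^ 2 = 0 ∧ ¬ (zpowers v).Normal := by
  have q : ((φ v).1 - 1) ^ 2 = 0 := by
    have nil : IsNilpotent ((φ v).1 - 1) := ⟨p, by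
      rw [sub_pow_char_of_commute p (Commute.one_right _), ← Units.val_pow_eq_pow_val, ← map_pow,
        orderOf_dvd_iff_pow_eq_one.1 hv.dvd, map_one, one_pow, Units.val_one, sub_self]⟩
    have := aeval_self_charpoly ((φ v).1 - 1)
    rwa [sub_eq_zero.1 (isNilpotent_charpoly_sub_pow_of_isNilpotent nil).eq_zero, map_pow, Polynomial.aeval_X] at this
  refine ⟨q, fun n => ?_⟩
  have N0 : (φ v).1 - 1 ≠ 0 := fun e => h1 (Units.ext (sub_eq_zero.1 e))
  obtain ⟨z, hz⟩ : ∃ z, ((φ v).1 - 1) *ᵥ z ≠ 0 := by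
    by_contra! e
    exact N0 (ext_iff_mulVec.2 fun z => (e z).trans (zero_mulVec z).symm)
  have e0 : ((φ v).1 - 1) *ᵥ (((φ v).1 - 1) *ᵥ z) = 0 := by rw [mulVec_mulVec, ← sq, q, zero_mulVec]
  generalize ((φ v).1 - 1) *ᵥ z = m at hz e0
  have fx : ∀ i : ℕ, (φ (v ^ i)).1 *ᵥ m = m := fun i => by
    induction i with
    | zero => simp
    | succ i ih =>
      rw [sub_mulVec, one_mulVec, sub_eq_zero] at e0
      rw [pow_succ, map_mul, Units.val_mul, ← mulVec_mulVec, e0, ih]
  have k : ∀ g, ∃ a : K, (φ g).1 *ᵥ m = a • m := fun g => by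
    obtain ⟨i, e⟩ := mem_powers_iff_mem_zpowers.2 (n.conj_mem' v (mem_zpowers v) g)
    refine two_line N0 hz e0 ?_
    rw [sub_mulVec, one_mulVec, sub_eq_zero, mulVec_mulVec, ← Units.val_mul, ← map_mul,
      show v * g = g * v ^ i by rw [show v ^ i = _ from e]; group, map_mul, Units.val_mul, ← mulVec_mulVec, fx]
  obtain ⟨_, a⟩ := k (h ^ 2)
  obtain ⟨_, b⟩ := k (h' ^ 2)
  exact w.no_common hz a b

end Two

/-- Let `M` be the `ZMod p`-span of the finite set of the columns `φ g *ᵥ Pi.single i 1`: a finite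
`ZMod p`-module (`Module.finite_of_finite`), invariant under `J` (`exists_units_hom` of MCF/Norm),
containing the two basis vectors, so the action is faithful, and `v` acts quadratically.
`HA.not_quad`. -/
theorem HA.not_quad_gl {p : ℕ} [Fact p.Prime] [CharP K p] (b : HA p v) (h5 : 5 ≤ p)
    (hφ : Function.Injective φ) (hq : ((φ v).1 - 1) ^ 2 = 0) : False := by
  let _ := ZMod.algebra K p
  let L : Matrix (Fin 2) (Fin 2) K → End (ZMod p) (Fin 2 → K) := fun A => A.mulVecLin.restrictScalars (ZMod p)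
  let M := Submodule.span (ZMod p) (Set.range fun x : J × Fin 2 => (φ x.1).1 *ᵥ Pi.single x.2 (1 : K))
  have : Module.Finite (ZMod p) M := Module.Finite.span_of_finite _ (Set.finite_range _)
  have : Finite M := Module.finite_of_finite (ZMod p)
  have iv : ∀ g, ∀ x ∈ M, L (φ g).1 x ∈ M := fun g x hx => by
    refine (Submodule.map_span_le (L (φ g).1) _ M).2 ?_ (Submodule.mem_map_of_mem hx)
    rintro _ ⟨x, rfl⟩
    exact Submodule.subset_span ⟨(g * x.1, x.2), by
      simp only [L, map_mul, Units.val_mul, ← mulVec_mulVec]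
      rfl⟩
  let f₀ : J →* End (ZMod p) M :=
    { toFun g := (L (φ g).1).restrict (iv g)
      map_one' := LinearMap.ext fun x => Subtype.ext (by simp [L])
      map_mul' a b := LinearMap.ext fun x => Subtype.ext (by simp [L]) }
  let f := f₀.toHomUnits
  have e : ∀ g x, ((f g).1 x).1 = (φ g).1 *ᵥ x.1 := fun g x => rfl
  clear_value f
  refine b.not_quad (ρ := f) h5 ((injective_iff_map_eq_one f).2 fun g a => hφ (Units.ext ?_)) ?_
  · ext i j
    have := congrFun (e g ⟨Pi.single j 1, Submodule.subset_span ⟨(1, j), by simp only [map_one, Units.val_one, one_mulVec]⟩⟩) i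
    rw [a] at this
    simpa [one_apply, Pi.single_apply] using this.symm
  · ext1 x
    refine Subtype.ext ?_
    have := congrArg (· *ᵥ x.1) hq
    rw [pow_two] at this ⊢
    simp only [← mulVec_mulVec, sub_mulVec, one_mulVec, mulVec_sub, zero_mulVec] at this
    simpa only [End.mul_apply, LinearMap.sub_apply, End.one_apply, map_sub, Submodule.coe_sub, e, LinearMap.zero_apply,
      Submodule.coe_zero] using this

/-- `J` is a subgroup of `H`. `exists_p` gives `v ∈ J` with `HB p (v : H)` (`HB.of_orderOf`). The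
kernel of `φ` has order prime to `p` (else it contains a Sylow subgroup of `J`, hence `v`) and is
normalized by `v`, so its image in `H` is trivial by `noR`. `HA p v` in `J` by `not_normal`. -/
theorem HB.false_of_two [IsAlgClosed K] {p : ℕ} [Fact p.Prime] [CharP K p] {H : Type*} [Group H]
    [Finite H] {u : H} (b : HB p u) (h5 : 5 ≤ p) {J : Subgroup H} {φ : J →* GL (Fin 2) K} {h h' : J}
    (w : Two φ h h' l t) : False := by
  have sq : ¬ p ^ 2 ∣ Nat.card J := fun d => b.sq (d.trans (card_subgroup_dvd_card J))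
  obtain ⟨v, hv, v1⟩ := w.exists_p sq
  have b' := b.of_orderOf ((orderOf_coe v).trans hv)
  obtain ⟨q, n⟩ := w.not_normal hv v1
  have c : HB p v := ⟨⟨hv, sq, fun g e => ?_, n⟩, fun R a e => ?_⟩
  · exact c.toHA.not_quad_gl h5 (c.injective v1) q
  · obtain ⟨i, e⟩ := b'.cen g (congrArg Subtype.val e)
    exact ⟨i, Subtype.ext e⟩
  · refine (map_eq_bot_iff_of_injective R J.subtype_injective).1 (b'.noR _ (by rwa [card_map_of_injective J.subtype_injective]) ?_)
    rintro _ ⟨r, hr, rfl⟩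
    exact ⟨_, e r hr, rfl⟩

end Cfsg.Lib.MXE
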