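import Cfsg.Agent.Lib.MXE.HB

/-!
# Two idempotents with nilpotent commutator (S5267, file 7)
-/

set_option autoImplicit false
set_option linter.unusedSectionVars false

namespace Cfsg.Lib.MXE

open Module Subgroup Cfsg.Lib Cfsg.Lib.MCF Cfsg.Lib.QuadPair Polynomial
open scoped commutatorElement

/-- With `a = e - f`, `b = 1 - e - f`: `a * b = -(b * a)` and `e * f - f * e = -(a * b)`. -/
theorem idem_anti {A : Type*} [Ring A] {e f : A} (he : e * e = e) (hf : f * f = f) :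
    (e * f - f * e) * (e - f) = -((e - f) * (e * f - f * e)) ∧
    (e * f - f * e) * (e + f - 1) = -((e + f - 1) * (e * f - f * e)) ∧
    (e * f - f * e) * (e * f - f * e) = (e - f) ^ 4 - (e - f) ^ 2 ∧
    Commute e ((e - f) ^ 2) ∧ Commute f ((e - f) ^ 2) := by
  have he' : ∀ x, e * (e * x) = e * x := fun x => by rw [← mul_assoc, he]
  have hf' : ∀ x, f * (f * x) = f * x := fun x => by rw [← mul_assoc, hf]
  refine ⟨?_, ?_, ?_, ?_, ?_⟩
  all_goals
    simp only [Commute, SemiconjBy, pow_succ, pow_zero, one_mul, mul_one, mul_sub, sub_mul, mul_add, add_mul,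
      mul_assoc, he, hf, he', hf']
    abel

variable {p : ℕ} [hp : Fact p.Prime] {V : Type*} [AddCommGroup V] [Module (ZMod p) V] [Finite V]
  {e f : End (ZMod p) V} {x y : (End (ZMod p) V)ˣ} {c : ZMod p}

/-- Let `η = e * f - f * e`, `W i = range (η ^ i)`. By `idem_anti`, `e - f` and `e + f - 1`, hence
(`p` odd) `e`, `f`, `x`, `y` preserve each `W i` (`stabF W`), and `x * y - y * x = c ^ 2 • η`
maps `W i` into `W (i + 1)`. So `⁅x, y⁆ ∈ raise W`, a `p`-group (`isPGroup_raise`) normalized by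
`stabF W` (`stabF_le_normalizer`). Take `K = raise W`. -/
theorem exists_pgroup_of_nil (h2 : p ≠ 2) (he : e * e = e) (hf : f * f = f)
    (hx : x.1 = 1 + c • e) (hy : y.1 = 1 + c • f) (hn : IsNilpotent (e * f - f * e)) :
    ∃ K : Subgroup (End (ZMod p) V)ˣ, IsPGroup p K ∧ ⁅x, y⁆ ∈ K ∧ ∀ k ∈ K, x * k * x⁻¹ ∈ K := by
  rcases subsingleton_or_nontrivial V with _ | _
  · exact ⟨⊥, IsPGroup.of_bot, Subsingleton.elim _ _, fun k _ => Subsingleton.elim _ _⟩
  obtain ⟨a1, a2, -⟩ := idem_anti he hf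
  have e0 : x.1 * y.1 - y.1 * x.1 = (c * c) • (e * f - f * e) := by
    simp only [hx, hy, mul_add, add_mul, mul_one, one_mul, smul_mul_assoc, mul_smul_comm]
    module
  generalize e * f - f * e = η at a1 a2 e0 hn
  obtain ⟨d, hd⟩ := hn
  let W : ℕ → Submodule (ZMod p) V := fun i => LinearMap.range (η ^ i)
  have an : Antitone W := antitone_nat_of_succ_le fun i => by
    rintro _ ⟨w, rfl⟩
    exact ⟨η w, by rw [pow_succ, End.mul_apply]⟩
  have h0 : W 0 = ⊤ := LinearMap.range_id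
  have k : ∀ τ : End (ZMod p) V, η * τ = -(τ * η) → τ ∈ rs W 0 := fun τ h i => by
    induction i with
    | zero => exact fun u _ => h0 ▸ trivial
    | succ i ih =>
      rintro _ ⟨w, rfl⟩
      obtain ⟨w', e⟩ := ih _ ⟨w, rfl⟩
      refine ⟨-w', ?_⟩
      rw [map_neg, add_zero, pow_succ', End.mul_apply, End.mul_apply, ← End.mul_apply τ, ← neg_neg (τ * η), ← h,
        LinearMap.neg_apply, End.mul_apply, ← e, add_zero]
  have t : (2 : ZMod p) ≠ 0 := fun a => h2 ((Nat.prime_dvd_prime_iff_eq hp.out Nat.prime_two).1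
    ((ZMod.natCast_eq_zero_iff 2 p).1 a))
  have m1 : e ∈ rs W 0 := by
    rw [show e = (2 : ZMod p)⁻¹ • ((2 : ZMod p) • e) from (inv_smul_smul₀ t e).symm,
      show (2 : ZMod p) • e = e - f + (e + f - 1) + 1 by module]
    exact Submodule.smul_mem _ _ (add_mem (add_mem (k _ a1) (k _ a2)) (one_mem_rs W))
  have m2 : f ∈ rs W 0 := by simpa using sub_mem m1 (k _ a1)
  have s1 := mem_stabF (g := x) (hx ▸ add_mem (one_mem_rs W) (Submodule.smul_mem _ _ m1))
  have s2 := mem_stabF (g := y) (hy ▸ add_mem (one_mem_rs W) (Submodule.smul_mem _ _ m2))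
  refine ⟨raise W an h0, isPGroup_raise (d := d) an h0 (by simp [W, hd]), ?_,
    fun k => (mem_normalizer_iff.1 (stabF_le_normalizer an h0 s1) k).1⟩
  change _ ∈ rs W 1
  rw [show (⁅x, y⁆ : (End (ZMod p) V)ˣ).1 - 1 = (x.1 * y.1 - y.1 * x.1) * (x⁻¹ * y⁻¹).1 by
    simp [commutatorElement_def, sub_mul, mul_assoc], e0]
  refine rs_mul_zero (Submodule.smul_mem _ _ ?_) (stabF_rs (mul_mem (inv_mem s1) (inv_mem s2)))
  rintro i _ ⟨w, rfl⟩
  exact ⟨w, by rw [pow_succ', End.mul_apply]⟩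

/-- `x⁻¹ = 1 + (l⁻¹ - 1) • e` where `x = 1 + (l - 1) • e`; conjugation `ad` by `x` acts on
`e τ e`, `(1 - e) τ (1 - e)` by `1`, on `e τ (1 - e)` by `l`, on `(1 - e) τ e` by `l⁻¹`, so
`q (ad) = 0` for `q = (X - 1) (X - l) (X - l⁻¹)`. Let `N = y - 1`, `N ^ p = 0`. From
`x * y * x⁻¹ = y ^ a`: `ad N = a • N + N ^ 2 * g`, `g` a polynomial in `N`, so `ad (N ^ i) -
a ^ i • N ^ i ∈ N ^ (i + 1) * (ZMod p)[N]`, an `ad`-invariant space that does not contain
`N ^ i ≠ 0`. Hence `q (a ^ i) = 0` if `N ^ i ≠ 0`. If `N ^ 2 ≠ 0` then `a` and `a ^ 2` lie in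
`{1, l, l⁻¹}`, `a ≠ 1`, which gives `l ^ 2 = 1`, `l = 1` or `l ^ 3 = 1`. -/
theorem sq_eq_zero_of_wt {l : ZMod p} (hl : 4 ≤ orderOf l) (he : e * e = e)
    (hx : x.1 = 1 + (l - 1) • e) (hy : y ^ p = 1) {a : ℕ} (ha : (a : ZMod p) ≠ 1)
    (h : x * y * x⁻¹ = y ^ a) : (y.1 - 1) ^ 2 = 0 := by
  rcases subsingleton_or_nontrivial V with _ | _
  · exact Subsingleton.elim _ _
  have : CharP (End (ZMod p) V) p := charP_of_injective_algebraMap (algebraMap (ZMod p) _).injective p
  have nl : ∀ n, n ≠ 0 → n < 4 → l ^ n ≠ 1 := fun n a b => pow_ne_one_of_lt_orderOf a (b.trans_le hl)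
  have l0 : l ≠ 0 := by
    rintro rfl
    rw [orderOf_zero] at hl
    omega
  let ad : End (ZMod p) V →ₐ[ZMod p] End (ZMod p) V :=
    { toFun τ := x.1 * τ * (x⁻¹).1
      map_one' := by simp
      map_mul' _ _ := by simp [mul_assoc]
      map_zero' := by simp
      map_add' _ _ := by simp [mul_add, add_mul]
      commutes' r := by simp [Algebra.algebraMap_eq_smul_one] }
  let T : ZMod p → End (ZMod p) (End (ZMod p) V) := fun μ => ad.toLinearMap - μ • 1
  have hT : ∀ μ τ, T μ τ = ad τ - μ • τ := fun _ _ => rfl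
  have q : ∀ τ, T 1 (T l (T l⁻¹ τ)) = 0 := fun τ => by
    have ev : ∀ τ ν, ad τ = ν • τ → (ν - 1) * ((ν - l) * (ν - l⁻¹)) = 0 → T 1 (T l (T l⁻¹ τ)) = 0 := fun τ ν a b => by
      have : ∀ μ, T μ τ = (ν - μ) • τ := fun μ => by rw [hT, a, sub_smul]
      simp only [this, map_smul, smul_smul]
      rw [show (ν - l⁻¹) * (ν - l) * (ν - 1) = 0 by linear_combination b, zero_smul]
    have a1 : x.1 * e = l • e := by
      rw [hx, add_mul, smul_mul_assoc, he, one_mul]
      module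
    have a2 : x.1 * (1 - e) = 1 - e := by
      rw [mul_sub, a1, mul_one, hx]
      module
    have a3 : e * (x⁻¹).1 = l⁻¹ • e := by
      rw [eq_inv_smul_iff₀ l0, ← smul_mul_assoc, Units.mul_inv_eq_iff_eq_mul, hx, mul_add, mul_smul_comm, he, mul_one]
      module
    have a4 : (1 - e) * (x⁻¹).1 = 1 - e := by
      rw [Units.mul_inv_eq_iff_eq_mul, hx, mul_add, mul_one, mul_smul_comm, sub_mul, he, one_mul, sub_self,
        smul_zero, add_zero]
    have ea : ∀ s t, ad (s * τ * t) = x.1 * s * τ * (t * (x⁻¹).1) := fun s t => by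
      change x.1 * _ * _ = _
      simp only [mul_assoc]
    rw [show τ = e * τ * e + e * τ * (1 - e) + (1 - e) * τ * e + (1 - e) * τ * (1 - e) by noncomm_ring]
    simp only [map_add]
    rw [ev _ 1 (by rw [ea, a1, a3, smul_mul_assoc, smul_mul_smul_comm, mul_inv_cancel₀ l0]) (by simp),
      ev _ l (by rw [ea, a1, a4, smul_mul_assoc, smul_mul_assoc]) (by simp),
      ev _ l⁻¹ (by rw [ea, a2, a3, mul_smul_comm]) (by simp), ev _ 1 (by rw [ea, a2, a4, one_smul]) (by simp)]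
    simp
  obtain ⟨s, hs⟩ : ∃ s : (ZMod p)[X], (1 + X) ^ a = 1 + X * (C (a : ZMod p) + X * s) := by
    clear h ha
    induction a with
    | zero => exact ⟨0, by simp⟩
    | succ a ih =>
      obtain ⟨s, hs⟩ := ih
      exact ⟨C (a : ZMod p) + s + X * s, by rw [pow_succ, hs, Nat.cast_succ, map_add, map_one]; ring⟩
  have nil : IsNilpotent (y.1 - 1) := ⟨p, by
    rw [sub_pow_char_of_commute p (Commute.one_right _), ← Units.val_pow_eq_pow_val, hy, one_pow, Units.val_one, sub_self]⟩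
  have e1 : ad (y.1 - 1) = aeval (y.1 - 1) (X * (C (a : ZMod p) + X * s)) := by
    rw [← add_sub_cancel_left 1 (X * _), ← hs, map_sub, map_sub, map_one, map_one, map_pow, map_add, map_one, aeval_X,
      add_sub_cancel, ← Units.val_pow_eq_pow_val, ← h]
    rfl
  generalize y.1 - 1 = N at nil e1
  have st : ∀ (i : ℕ) μ c τ, (∃ g, τ = aeval N (X ^ i * (C c + X * g))) →
      ∃ g, T μ τ = aeval N (X ^ i * (C (((a : ZMod p) ^ i - μ) * c) + X * g)) := by
    rintro i μ c _ ⟨g, rfl⟩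
    obtain ⟨r, hr⟩ := (show X ∣ C (a : ZMod p) + X * s - C (a : ZMod p) by simp).trans (sub_dvd_pow_sub_pow _ _ i)
    refine ⟨r * C c + (C (a : ZMod p) + X * s) ^ i * (C (a : ZMod p) + X * s) * g.comp (X * (C (a : ZMod p) + X * s)) -
      C μ * g, ?_⟩
    rw [hT, ← aeval_algHom_apply, e1, ← aeval_comp, ← map_smul, ← map_sub, smul_eq_C_mul]
    congr 1
    simp only [mul_comp, add_comp, pow_comp, X_comp, C_comp, mul_pow, map_mul, map_sub, map_pow]
    linear_combination X ^ i * C c * hr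
  have k : ∀ i : ℕ, N ^ i ≠ 0 → ((a : ZMod p) ^ i - 1) * (((a : ZMod p) ^ i - l) * (((a : ZMod p) ^ i - l⁻¹) * 1)) = 0 :=
    fun i hi => by_contra fun n => by
      obtain ⟨g, e⟩ := st i 1 _ _ (st i l _ _ (st i l⁻¹ 1 (N ^ i) ⟨0, by simp⟩))
      have c : Commute N (aeval N g) := by simpa using (Commute.all X g).map (aeval N)
      rw [q, map_mul, map_pow, aeval_X, map_add, aeval_C, map_mul (aeval N), aeval_X, eq_comm,
        ((c.isNilpotent_mul_right nil).isUnit_add_left_of_commute ((Ne.isUnit n).map _)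
          (Algebra.commutes _ _).symm).mul_left_eq_zero] at e
      exact hi e
  by_contra n
  have k1 := k 1 fun e => n (by rw [pow_succ, e, zero_mul])
  have k2 := k 2 n
  simp only [mul_one, pow_one, mul_eq_zero, sub_eq_zero, ha, false_or] at k1 k2
  have n1 := nl 1 (by norm_num) (by norm_num)
  have n2 := nl 2 (by norm_num) (by norm_num)
  have n3 := nl 3 (by norm_num) (by norm_num)
  rcases k1 with k1 | k1 <;> rw [k1] at k2 <;> rcases k2 with k2 | k2 | k2 <;> field_simp at k2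
  exacts [n2 k2, n1 (by rw [pow_one, k2]), n3 k2, n2 k2.symm, n3 k2.symm, n1 (by rw [pow_one, ← k2])]

variable {H : Type*} [Group H] [Finite H] {u h h' : H} {ρ : H →* (End (ZMod p) V)ˣ}

theorem pow_eq_one_of_idem (hρ : Function.Injective ρ) {l : ZMod p} (hl : orderOf l = p - 1) (he : e * e = e)
    (hx : (ρ h).1 = 1 + (l - 1) • e) : h ^ (p - 1) = 1 := by
  have : ∀ i, (ρ h).1 ^ i = 1 + (l ^ i - 1) • e := fun i => by
    induction i with
    | zero => simp
    | succ i ih =>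
      rw [pow_succ, ih, hx]
      simp only [pow_succ, mul_add, add_mul, mul_one, one_mul, smul_mul_assoc, mul_smul_comm, he]
      module
  refine hρ (Units.ext ?_)
  rw [map_pow, Units.val_pow_eq_pow_val, this, ← hl, pow_orderOf_eq_one, sub_self, zero_smul, add_zero, map_one,
    Units.val_one]

/-- `K.comap ρ` (from `exists_pgroup_of_nil`) is a `p`-subgroup containing `v = ⁅h, h'⁆ ≠ 1`, so it
has order `p` and equals `zpowers v`; `h * v * h⁻¹ = v ^ a`. `HB p v` (`HB.of_orderOf`). If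
`(a : ZMod p) = 1` then `h ∈ zpowers v`, so `h ^ p = 1`; but `h ^ (p - 1) = 1`
(`(1 + (l - 1) • e) ^ i = 1 + (l ^ i - 1) • e`), so `h = 1`, `v = 1`. Otherwise
`sq_eq_zero_of_wt` and `HA.not_quad`. -/
theorem HB.false_of_nil (b : HB p u) (h5 : 5 ≤ p) (hρ : Function.Injective ρ) {l : ZMod p}
    (hl : orderOf l = p - 1) (he : e * e = e) (hf : f * f = f) (hx : (ρ h).1 = 1 + (l - 1) • e)
    (hy : (ρ h').1 = 1 + (l - 1) • f) (hc : h * h' ≠ h' * h)
    (hn : IsNilpotent (e * f - f * e)) : False := by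
  obtain ⟨K, k1, k2, k3⟩ := exists_pgroup_of_nil (by omega) he hf hx hy hn
  have v1 : ⁅h, h'⁆ ≠ 1 := fun a => hc (commutatorElement_eq_one_iff_mul_comm.1 a)
  rw [← map_commutatorElement] at k2
  generalize ⁅h, h'⁆ = v at k2 v1
  obtain ⟨n, hn⟩ := IsPGroup.iff_card.1 (k1.comap_of_injective ρ hρ)
  have n1 : n ≤ 1 := by_contra fun a => b.sq ((pow_dvd_pow p (by omega)).trans (hn ▸ card_subgroup_dvd_card _))
  have ov : orderOf v = p := ((Nat.dvd_prime hp.out).1 (((K.comap ρ).orderOf_dvd_natCard k2).trans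
    (hn ▸ (pow_dvd_pow p n1).trans (pow_one p).dvd))).resolve_left (by simpa using v1)
  have e1 : zpowers v = K.comap ρ := eq_of_le_of_card_ge (zpowers_le.2 k2) (by
    rw [Nat.card_zpowers, ov, hn]
    exact (Nat.pow_le_pow_right hp.out.pos n1).trans (pow_one p).le)
  obtain ⟨a, ha⟩ := mem_powers_iff_mem_zpowers.2 (e1.ge (show h * v * h⁻¹ ∈ K.comap ρ by
    simpa using k3 _ k2))
  have b' := b.of_orderOf ov
  have vp : v ^ p = 1 := orderOf_dvd_iff_pow_eq_one.1 ov.dvd
  by_cases a1 : (a : ZMod p) = 1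
  · have : v ^ a = v ^ 1 := pow_eq_pow_iff_modEq.2 (ov ▸ (ZMod.natCast_eq_natCast_iff a 1 p).1 (by simpa using a1))
    obtain ⟨i, hi⟩ := b'.cen h (mul_inv_eq_iff_eq_mul.1 (ha.symm.trans (this.trans (pow_one v))))
    have p1 : h ^ (p - 1 + 1) = 1 := by
      rw [Nat.sub_add_cancel hp.out.pos, ← hi, ← zpow_natCast, ← zpow_mul, mul_comm, zpow_mul, zpow_natCast, vp,
        one_zpow]
    rw [pow_succ, pow_eq_one_of_idem hρ hl he hx, one_mul] at p1
    exact hc (by rw [p1, one_mul, mul_one])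
  · exact b'.toHA.not_quad h5 hρ (sq_eq_zero_of_wt (by omega) he hx (by rw [← map_pow, vp, map_one])
      a1 (by rw [← map_pow, show v ^ a = _ from ha, map_mul, map_mul, map_inv]))

end Cfsg.Lib.MXE
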