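import Cfsg.Agent.Lib.MXE.BN
import Cfsg.Agent.Lib.MXE.BD

/-!
# An element with two eigenvalues (S5267, file 9)
-/

set_option autoImplicit false
set_option linter.unusedSectionVars false

namespace Cfsg.Lib.MXE

open Module Subgroup Cfsg.Lib Cfsg.Lib.MCF Matrix Polynomial

/-- `η ^ 2 = c ^ 2 - c` for `c = (e - f) ^ 2` (`idem_anti`), so `c` has an eigenvalue `t ≠ 0, 1`
(otherwise the only eigenvalue of `c ^ 2 - c` is `0`: spectral mapping, and an endomorphism whose
only eigenvalue is `0` is nilpotent). `e`, `f` preserve the eigenspace `W` of `c`; `e` does not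
vanish on `W` (else `c = f` on `W`), so there is `m ≠ 0` in `W` with `e m = m`; and
`e * f * e = (1 - c) * e`. If `f m = s • m` then `s * s = s` and `s = 1 - t`. -/
theorem exists_pair {K V : Type*} [Field K] [IsAlgClosed K] [AddCommGroup V] [Module K V]
    [FiniteDimensional K V] {e f : End K V} (he : e * e = e) (hf : f * f = f)
    (hn : ¬ IsNilpotent (e * f - f * e)) : ∃ (t : K) (m : V), t ≠ 0 ∧ t ≠ 1 ∧ e m = m ∧
      e (f m) = (1 - t) • m ∧ LinearIndependent K ![m, f m] := by
  obtain ⟨-, -, a1, a2, a3⟩ := idem_anti he hf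
  have a4 : (e - f) ^ 2 * e = e - e * f * e := by
    simp only [sq, mul_sub, sub_mul, mul_assoc, he, ← mul_assoc f f, hf]
    abel
  have a5 : ∀ w, e w = 0 → e (f w) = 0 → ((e - f) ^ 2) w = f w := fun w a b => by
    simp [sq, a, b, ← End.mul_apply f f, hf]
  rw [show (e - f) ^ 4 = ((e - f) ^ 2) ^ 2 from pow_mul _ 2 2] at a1
  generalize (e - f) ^ 2 = c at a1 a2 a3 a4 a5
  have ff : ∀ w, f (f w) = f w := fun w => by rw [← End.mul_apply, hf]
  have k : ∀ {s : K} {w}, w ≠ 0 → f w = s • w → s = 0 ∨ s = 1 := fun {s w} w0 a => by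
    have := ff w
    rw [a, map_smul, a, smul_smul] at this
    exact (mul_eq_zero.1 (by linear_combination smul_left_injective K w0 this : s * (s - 1) = 0)).imp_right
      sub_eq_zero.1
  obtain ⟨t, ht, t0, t1⟩ : ∃ t, c.HasEigenvalue t ∧ t ≠ 0 ∧ t ≠ 1 := by
    by_contra! a
    have d : minpoly K c ∣ (X ^ 2 - X) ^ (minpoly K c).roots.card := by
      conv_lhs => rw [(IsAlgClosed.splits _).eq_prod_roots_of_monic (minpoly.monic (Algebra.IsIntegral.isIntegral c))]
      rw [← Multiset.prod_replicate, ← Multiset.map_const']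
      refine Multiset.prod_dvd_prod_of_dvd _ _ fun r hr => dvd_iff_isRoot.2 ?_
      have := a r (End.hasEigenvalue_iff_isRoot.2 (isRoot_of_mem_roots hr))
      by_cases r0 : r = 0 <;> simp_all
    refine hn (.of_pow (m := 2) ⟨(minpoly K c).roots.card, ?_⟩)
    simpa [sq, a1] using minpoly.dvd_iff.1 d
  obtain ⟨w, hw, w0⟩ := ht.exists_hasEigenvector
  rw [End.mem_eigenspace_iff] at hw
  have st : ∀ g : End K V, Commute g c → ∀ w, c w = t • w → c (g w) = t • g w := fun g a w b => by
    rw [← End.mul_apply, ← a.eq, End.mul_apply, b, map_smul]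
  obtain ⟨w, hw, w0⟩ : ∃ w, c w = t • w ∧ e w ≠ 0 := by
    by_contra! a
    exact (k w0 ((a5 w (a w hw) (a _ (st f a3 w hw))).symm.trans hw)).elim t0 t1
  have b1 : e (e w) = e w := by rw [← End.mul_apply, he]
  have b2 : e (f (e w)) = (1 - t) • e w := by
    have := LinearMap.congr_fun a4 w
    simp only [End.mul_apply, LinearMap.sub_apply, st e a2 w hw] at this
    rw [sub_smul, this, one_smul, sub_sub_cancel]
  refine ⟨t, e w, t0, t1, b1, b2, (LinearIndependent.pair_iff' w0).2 fun s a => ?_⟩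
  rw [← a, map_smul, b1] at b2
  rcases k w0 a.symm with b | b <;> rw [smul_left_injective K w0 b2] at b
  · exact t1 (sub_eq_zero.1 b).symm
  · exact t0 (sub_eq_self.1 b)

variable {p : ℕ} [hp : Fact p.Prime] {V : Type*} [AddCommGroup V] [Module (ZMod p) V] [Finite V]
  {e f : End (ZMod p) V} {H : Type*} [Group H] [Finite H] {u h h' : H}
  {ρ : H →* (End (ZMod p) V)ˣ} {l : ZMod p}

theorem exists_plane {K W : Type*} [Field K] [AddCommGroup W] [Module K W] (σ : H →* End K W) {b : Fin 2 → W}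
    (li : LinearIndependent K b) : ∃ (J : Subgroup H) (φ : J →* GL (Fin 2) K), ∀ g (A : Matrix (Fin 2) (Fin 2) K),
      (∀ j, σ g (b j) = ∑ i, A i j • b i) → ∃ hg : g ∈ J, (φ ⟨g, hg⟩).1 = A := by
  let M := Submodule.span K (Set.range b)
  let S : Submonoid H :=
    { carrier := {g | ∀ x ∈ M, σ g x ∈ M}
      one_mem' := fun x hx => by rwa [map_one]
      mul_mem' := fun a b x hx => by
        rw [map_mul]
        exact a _ (b x hx) }
  let J : Subgroup H := { S with
    inv_mem' := fun {g} (a : g ∈ S) => show g⁻¹ ∈ S from Submonoid.powers_le.2 a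
      (mem_powers_iff_mem_zpowers.2 (inv_mem (mem_zpowers g))) }
  let c := Basis.span li
  let φ : J →* Matrix (Fin 2) (Fin 2) K :=
    { toFun g := LinearMap.toMatrix c c ((σ g).restrict g.2)
      map_one' := by
        rw [← LinearMap.toMatrix_one c]
        exact congrArg _ (LinearMap.ext fun x => Subtype.ext (by simp))
      map_mul' a b := by
        rw [← LinearMap.toMatrix_mul c]
        exact congrArg _ (LinearMap.ext fun x => Subtype.ext (by simp)) }
  refine ⟨J, φ.toHomUnits, fun g A a => ⟨fun x hx => ?_, Matrix.ext fun i j => ?_⟩⟩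
  · refine (Submodule.map_span_le (σ g) _ M).2 ?_ (Submodule.mem_map_of_mem hx)
    rintro _ ⟨j, rfl⟩
    rw [a]
    exact sum_mem fun i _ => Submodule.smul_mem _ _ (Submodule.subset_span ⟨i, rfl⟩)
  · refine (LinearMap.toMatrix_apply c c _ i j).trans (Eq.trans ?_ (congrFun (c.repr_sum_self fun i => A i j) i))
    congr 2
    exact Subtype.ext (by simp [c, a, Basis.span_apply])

/-- Base change to `K = AlgebraicClosure (ZMod p)` (`Module.End.baseChangeHom`, injective, so the
commutator stays non-nilpotent); `exists_pair`. The stabilizer `J` in `H` of the plane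
`M = span {m, f m}` contains `h, h'`; `φ` is the matrix of the restriction in the basis
`![m, f m]` (columns are images): `e ↦ !![1, 1 - t; 0, 0]`, `f ↦ !![0, 0; 1, 1]`. -/
theorem exists_two (hl : 6 ≤ orderOf l) (he : e * e = e) (hf : f * f = f)
    (hx : (ρ h).1 = 1 + (l - 1) • e) (hy : (ρ h').1 = 1 + (l - 1) • f)
    (hn : ¬ IsNilpotent (e * f - f * e)) : ∃ (J : Subgroup H) (hh : h ∈ J) (hh' : h' ∈ J)
      (φ : J →* GL (Fin 2) (AlgebraicClosure (ZMod p))) (t : AlgebraicClosure (ZMod p)),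
      Two φ ⟨h, hh⟩ ⟨h', hh'⟩ (algebraMap (ZMod p) _ l) t := by
  let K := AlgebraicClosure (ZMod p)
  let B := End.baseChangeHom (ZMod p) K V
  have hB : Function.Injective B := LinearMap.baseChangeHom_injective (ZMod p) V K
  obtain ⟨t, m, t0, t1, a1, a2, li⟩ := exists_pair (e := B e) (f := B f) (by rw [← map_mul, he]) (by rw [← map_mul, hf])
    (by rwa [← map_mul, ← map_mul, ← map_sub B, IsNilpotent.map_iff hB])
  have a3 : B f (B f m) = B f m := by rw [← End.mul_apply, ← map_mul, hf]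
  obtain ⟨J, φ, k⟩ := exists_plane (B.toMonoidHom.comp ((Units.coeHom _).comp ρ)) li
  have s : ∀ {g x}, (ρ g).1 = 1 + (l - 1) • x → ∀ v, B.toMonoidHom.comp ((Units.coeHom _).comp ρ) g v =
      v + (algebraMap (ZMod p) K l - 1) • B x v := fun {g x} a v => by
    change B (ρ g).1 v = _
    rw [a, map_add, map_one, map_smul, ← map_one (algebraMap (ZMod p) K), ← map_sub, algebraMap_smul]
    rfl
  obtain ⟨hh, e1⟩ := k h !![algebraMap _ K l, (algebraMap _ K l - 1) * (1 - t); 0, 1] (Fin.forall_fin_two.2 (by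
    simp only [s hx, Fin.sum_univ_two, of_apply, cons_val', cons_val_zero, cons_val_one, cons_val_fin_one, a1, a2]
    constructor <;> module))
  obtain ⟨hh', e2⟩ := k h' !![1, 0; algebraMap _ K l - 1, algebraMap _ K l] (Fin.forall_fin_two.2 (by
    simp only [s hy, Fin.sum_univ_two, of_apply, cons_val', cons_val_zero, cons_val_one, cons_val_fin_one, a3]
    constructor <;> module))
  exact ⟨J, hh, hh', φ, t, e1, e2, t0, t1, by
    rwa [← orderOf_injective (algebraMap (ZMod p) K).toMonoidHom (algebraMap (ZMod p) K).injective l] at hl⟩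

/-- `ρ` is injective (`HB.injective`); the quadratic case is `HA.not_quad`. Let `7 ≤ p`,
`e = (l - 1)⁻¹ • (ρ h - 1)`, an idempotent; each conjugate `h'` of `h` has the conjugate idempotent.
If some `h'` does not commute with `h`: `HB.false_of_nil` or `exists_two` with `HB.false_of_two`.
Otherwise any two conjugates of `h` commute, so the normal closure of `h` is abelian of exponent
dividing `p - 1`; it is trivial by `noR`, so `h = 1`. -/
theorem HB.false_of_two_eig (b : HB p u) (h5 : 5 ≤ p) (hu : ρ u ≠ 1) (hl : orderOf l = p - 1)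
    (hh : ρ h ≠ 1) (hq : ((ρ h).1 - l • 1) * ((ρ h).1 - 1) = 0)
    (h7 : 7 ≤ p ∨ ((ρ u).1 - 1) ^ 2 = 0) : False := by
  have hρ := b.injective hu
  rcases h7 with h7 | h7
  swap
  · exact b.toHA.not_quad h5 hρ h7
  have l1 : l - 1 ≠ 0 := sub_ne_zero.2 (by
    rintro rfl
    rw [orderOf_one] at hl
    omega)
  obtain ⟨e, he, hx⟩ : ∃ e : End (ZMod p) V, e * e = e ∧ (ρ h).1 = 1 + (l - 1) • e := by
    refine ⟨(l - 1)⁻¹ • ((ρ h).1 - 1), ?_, by rw [smul_inv_smul₀ l1, add_sub_cancel]⟩
    rw [smul_mul_smul_comm, show ((ρ h).1 - 1) * ((ρ h).1 - 1) = (l - 1) • ((ρ h).1 - 1) by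
      rw [← sub_eq_zero, ← hq]
      simp only [sub_mul, mul_sub, smul_mul_assoc, one_mul, mul_one]
      module, smul_smul, inv_mul_cancel_right₀ l1]
  have cj : ∀ g, (ρ (g * h * g⁻¹)).1 = 1 + (l - 1) • ((ρ g).1 * e * (ρ g)⁻¹.1) ∧
      (ρ g).1 * e * (ρ g)⁻¹.1 * ((ρ g).1 * e * (ρ g)⁻¹.1) = (ρ g).1 * e * (ρ g)⁻¹.1 := fun g => by
    refine ⟨by simp [hx, mul_add, add_mul], ?_⟩
    simp only [mul_assoc, Units.inv_mul_cancel_left, ← mul_assoc e e, he]
  have c0 : ∀ g, h * (g * h * g⁻¹) = g * h * g⁻¹ * h := fun g => by_contra fun n => by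
    by_cases a : IsNilpotent (e * ((ρ g).1 * e * (ρ g)⁻¹.1) - (ρ g).1 * e * (ρ g)⁻¹.1 * e)
    · exact b.false_of_nil h5 hρ hl he (cj g).2 hx (cj g).1 n a
    · obtain ⟨J, _, _, φ, t, w⟩ := exists_two (by omega) he (cj g).2 hx (cj g).1 a
      exact b.false_of_two h5 w
  have mc : ∀ x ∈ Group.conjugatesOfSet {h}, ∃ a, a * h * a⁻¹ = x := fun x m =>
    let ⟨_, a, m⟩ := Group.mem_conjugatesOfSet_iff.1 m
    isConj_iff.1 (a ▸ m)
  have c1 : normalClosure {h} ≤ centralizer (normalClosure {h} : Set H) := by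
    rw [normalClosure, centralizer_closure, closure_le]
    intro x hx y hy
    obtain ⟨a, rfl⟩ := mc x hx
    obtain ⟨c, rfl⟩ := mc y hy
    have := congrArg (fun z => c * z * c⁻¹) (c0 (c⁻¹ * a))
    simpa [mul_assoc] using this
  have c2 : ∀ x ∈ normalClosure {h}, x ^ (p - 1) = 1 := fun x hx' => by
    induction hx' using closure_induction with
    | mem x m =>
      obtain ⟨a, rfl⟩ := mc x m
      rw [conj_pow, pow_eq_one_of_idem hρ hl he hx, mul_one, mul_inv_cancel]
    | one => exact one_pow _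
    | mul x y a c d e => rw [(show Commute x y from c1 c x a).mul_pow, d, e, mul_one]
    | inv x _ d => rw [inv_pow, d, inv_one]
  have := b.noR (normalClosure {h}) (fun d => ?_) fun r hr => normalClosure_normal.conj_mem r hr u
  · exact hh (by rw [mem_bot.1 (this ▸ subset_normalClosure rfl : h ∈ ⊥), map_one])
  · obtain ⟨x, hx⟩ := exists_prime_orderOf_dvd_card' p d
    have := Nat.le_of_dvd (by omega) (((orderOf_coe x).trans hx).symm.dvd.trans (orderOf_dvd_of_pow_eq_one (c2 x x.2)))
    omega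

end Cfsg.Lib.MXE
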