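import Cfsg.Agent.Lib.MCF.Quad

/-!
# Groups with a self-centralizing Sylow subgroup of prime order (S5267, file 6)
-/

set_option autoImplicit false
set_option linter.unusedSectionVars false

namespace Cfsg.Lib.MXE

open Module Subgroup Cfsg.Lib Cfsg.Lib.MCF Cfsg.Lib.QuadPair

variable {p : ℕ} {H : Type*} [Group H] {u v g h : H} {J R : Subgroup H}

/-- `zpowers u` is a self-centralizing non-normal Sylow subgroup of order `p`. -/
structure HA (p : ℕ) {H : Type*} [Group H] (u : H) : Prop where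
  ord : orderOf u = p
  sq : ¬ p ^ 2 ∣ Nat.card H
  cen : ∀ g, g * u = u * g → g ∈ zpowers u
  nn : ¬ (zpowers u).Normal

/-- Moreover `u` normalizes no non-trivial subgroup of order prime to `p`. -/
structure HB (p : ℕ) {H : Type*} [Group H] (u : H) : Prop extends HA p u where
  noR : ∀ R : Subgroup H, ¬ p ∣ Nat.card R → (∀ r ∈ R, u * r * u⁻¹ ∈ R) → R = ⊥

variable [Finite H] [hp : Fact p.Prime]

theorem hb_norm {a : H} (h : ∀ r ∈ R, a * r * a⁻¹ ∈ R) : zpowers a ≤ normalizer (R : Set H) :=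
  zpowers_le.2 (mem_normalizer_fintype h)

theorem hb_gen (hu : orderOf u = p) (hv : v ∈ zpowers u) (h1 : v ≠ 1) : zpowers v = zpowers u := by
  refine eq_of_le_of_card_ge (zpowers_le.2 hv) ?_
  have d := card_dvd_of_le (zpowers_le.2 hv)
  rw [Nat.card_zpowers u, hu] at d ⊢
  exact ((hp.out.eq_one_or_self_of_dvd _ d).resolve_left fun e => h1 (by simpa using e)).ge

theorem HA.ne_one (b : HA p u) : u ≠ 1 := fun e => hp.out.ne_one (by rw [← b.ord, e, orderOf_one])

theorem HA.pow_p (b : HA p u) : u ^ p = 1 := b.ord ▸ pow_orderOf_eq_one u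

theorem HA.not_dvd (b : HA p u) : ¬ p ∣ (zpowers u).index := fun d => b.sq (by
  rw [← (zpowers u).card_mul_index, Nat.card_zpowers, b.ord, pow_two]
  exact Nat.mul_dvd_mul_left p d)

theorem HA.pg (b : HA p u) : IsPGroup p (zpowers u) := .of_card (n := 1) (by rw [Nat.card_zpowers, b.ord, pow_one])

theorem HB.conj (b : HB p u) (g : H) : HB p (g * u * g⁻¹) := by
  have e : zpowers (g * u * g⁻¹) = (zpowers u).map (MulAut.conj g).toMonoidHom := by simp
  refine ⟨⟨((MulAut.conj g).orderOf_eq u).trans b.ord, b.sq, fun x c => e.ge ⟨g⁻¹ * x * g, b.cen _ ?_, by simp [mul_assoc]⟩,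
    fun n => b.nn ?_⟩, fun R d n => ?_⟩
  · rw [show g⁻¹ * x * g * u = g⁻¹ * (x * (g * u * g⁻¹)) * g by group, c]; group
  · rw [← comap_map_eq_self_of_injective (f := (MulAut.conj g).toMonoidHom) (MulAut.conj g).injective (zpowers u), ← e]
    infer_instance
  · have := b.noR (R.map (MulAut.conj g⁻¹).toMonoidHom) (by rwa [card_map_of_injective (MulAut.conj g⁻¹).injective]) (by
      rintro _ ⟨r, m, rfl⟩
      exact ⟨_, n r m, by simp [mul_assoc]⟩)
    exact (map_eq_bot_iff_of_injective _ (MulAut.conj g⁻¹).injective).1 this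

/-- `(u ^ i) ^ j = u` for some `j`. -/
theorem HB.pow (b : HB p u) {i : ℕ} (hi : u ^ i ≠ 1) : HB p (u ^ i) := by
  have e := hb_gen b.ord (pow_mem (mem_zpowers u) i) hi
  refine ⟨⟨by rw [← Nat.card_zpowers, e, Nat.card_zpowers, b.ord], b.sq, fun x c => e.ge (b.cen _ ?_), e ▸ b.nn⟩,
    fun R d n => b.noR R d fun r => (mem_normalizer_iff.1 (hb_norm n (e.ge (mem_zpowers u))) r).1⟩
  obtain ⟨k, f⟩ := e.ge (mem_zpowers u)
  exact f ▸ (Commute.zpow_right c k).eq

/-- Sylow: `zpowers u` and `zpowers v` are Sylow subgroups, hence conjugate. -/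
theorem HA.exists_conj (b : HA p u) (hv : orderOf v = p) : ∃ g, ∃ i : ℕ, v = g * u ^ i * g⁻¹ := by
  obtain ⟨Q, l⟩ := (IsPGroup.of_card (p := p) (G := zpowers v) (n := 1) (by rw [Nat.card_zpowers, hv, pow_one])).exists_le_sylow
  obtain ⟨g, rfl⟩ := MulAction.exists_smul_eq H (b.pg.toSylow b.not_dvd) Q
  obtain ⟨x, m, e⟩ := l (mem_zpowers v)
  obtain ⟨i, rfl⟩ := mem_powers_iff_mem_zpowers.2 m
  exact ⟨g, i, e.symm⟩

theorem HB.of_orderOf (b : HB p u) (hv : orderOf v = p) : HB p v := by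
  obtain ⟨g, i, rfl⟩ := b.toHA.exists_conj hv
  exact (b.pow fun e => hp.out.ne_one (by rw [← hv, e]; simp)).conj g

/-- If `p` divides the order of the kernel, it contains a conjugate of a generator of
`zpowers u`, hence `u`. Otherwise `noR`. -/
theorem HB.injective {K : Type*} [Group K] (b : HB p u) {ρ : H →* K} (h : ρ u ≠ 1) :
    Function.Injective ρ := by
  refine ρ.ker_eq_bot_iff.1 (b.noR _ (fun d => h ?_) fun r m => ρ.normal_ker.conj_mem r m u)
  obtain ⟨v, hv⟩ := exists_prime_orderOf_dvd_card' p d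
  rw [← orderOf_coe] at hv
  obtain ⟨g, i, e⟩ := b.toHA.exists_conj hv
  have m : u ^ i ∈ ρ.ker := by
    convert ρ.normal_ker.conj_mem _ v.2 g⁻¹ using 1
    rw [e]; group
  exact zpowers_le.2 m ((hb_gen b.ord (pow_mem (mem_zpowers u) i) fun c => hp.out.ne_one (by rw [← hv, e, c]; simp)).ge
    (mem_zpowers u))

/-- Let `U = zpowers u`, `N` its normalizer, `K = χ.ker ∋ u` (orders `p` and `p - 1` are coprime).
Frattini: `H = K N` (`Sylow.normalizer_sup_eq_top'`), so `χ` maps `N` onto a group of order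
`p - 1`. `N / C(U) = N / U` embeds in `MulAut U` of order `p - 1`, so `|N| ≤ p (p - 1)` and
`N ⊓ K = U`. Burnside in `K` (`MonoidHom.ker_transferSylow_isComplement'`): the normal
`p`-complement of `K` (the elements of `K` of order prime to `p`; it is normalized by `u ∈ K`) is
trivial by `noR`. So `K = U` is normal. -/
theorem HB.not_surjective (b : HB p u) (χ : H →* (ZMod p)ˣ) : ¬ Function.Surjective χ := by
  intro s
  have uK : zpowers u ≤ χ.ker := zpowers_le.2 (by
    have a : χ u ^ (p - 1 + 1) = 1 := by rw [Nat.sub_add_cancel hp.out.one_le, ← map_pow, b.toHA.pow_p, map_one]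
    rwa [pow_succ, ZMod.units_pow_card_sub_one_eq_one, one_mul] at a)
  let P := b.pg.toSylow b.not_dvd
  have f : normalizer (zpowers u : Set H) ⊔ χ.ker = ⊤ := P.normalizer_sup_eq_top' uK
  have c1 : χ.ker.relIndex (normalizer (zpowers u : Set H)) = p - 1 := by
    have := congrArg (Subgroup.map χ) f
    rw [Subgroup.map_sup, (Subgroup.map_eq_bot_iff _).2 le_rfl, sup_bot_eq, map_top_of_surjective _ s] at this
    rw [relIndex_ker, this, card_top, Nat.card_eq_fintype_card, ZMod.card_units]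
  have cU : centralizer (zpowers u : Set H) = zpowers u := le_antisymm (fun x m => b.cen x (m u (mem_zpowers u)).symm)
    (le_centralizer _)
  have c2 : (zpowers u).relIndex (normalizer (zpowers u : Set H)) ∣ p - 1 := by
    have := card_subgroup_dvd_card (zpowers u).normalizerMonoidHom.range
    rwa [← index_ker, normalizerMonoidHom_ker, cU, IsCyclic.card_mulAut, Nat.card_zpowers, b.ord, Nat.totient_prime hp.out] at this
  have l : χ.ker ⊓ normalizer (zpowers u : Set H) ≤ zpowers u := by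
    rw [← relIndex_mul_relIndex _ _ _ (le_inf uK le_normalizer) inf_le_right, inf_relIndex_right, c1] at c2
    exact relIndex_eq_one.1 (Nat.dvd_one.1 (Nat.dvd_of_mul_dvd_mul_right (Nat.sub_pos_of_lt hp.out.one_lt) (by rwa [one_mul])))
  have hP : normalizer (P.subtype uK : Set χ.ker) ≤ centralizer (P.subtype uK : Set χ.ker) := fun x m y i => Subtype.ext
    (cU.ge (l ⟨x.2, zpowers_le.1 (hb_norm fun r j => (mem_normalizer_iff.1 m ⟨r, uK j⟩).1 j)⟩) y.1 i)
  have k := b.noR ((MonoidHom.transferSylow _ hP).ker.map χ.ker.subtype) (by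
    rw [card_map_of_injective χ.ker.subtype_injective]
    exact MonoidHom.not_dvd_card_ker_transferSylow _ hP) (by
      rintro _ ⟨r, m, rfl⟩
      exact ⟨_, (MonoidHom.normal_ker _).conj_mem r m ⟨u, uK (mem_zpowers u)⟩, rfl⟩)
  have t := (MonoidHom.ker_transferSylow_isComplement' _ hP).sup_eq_top
  rw [(map_eq_bot_iff_of_injective _ χ.ker.subtype_injective).1 k, bot_sup_eq] at t
  refine b.nn ?_
  rw [le_antisymm uK fun x m => t.ge (mem_top (⟨x, m⟩ : χ.ker))]
  infer_instance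

variable {V : Type*} [AddCommGroup V] [Module (ZMod p) V] [Finite V]
  {ρ : H →* (End (ZMod p) V)ˣ}

/-- `V` is non-trivial. `SE p ρ.range (zpowers (ρ u)) (ρ.range ⊓ normalizer (zpowers (ρ u)))`: if
`x, g * y * g⁻¹` lie in a `p`-subgroup `K`, then `K ⊓ ρ.range` has order `p`, so
`zpowers x = zpowers (g * y * g⁻¹)`. `SE.exists_invol` gives `t = ρ g = 1 - 2 ε` with
`t * α = α * t = -α`, so `g` commutes with `u` and lies in `zpowers u`, while `t ^ 2 = 1`. Then
`t = 1`, `α = -α`, `α = 0`. -/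
theorem HA.not_quad (b : HA p u) (h5 : 5 ≤ p) (hρ : Function.Injective ρ)
    (hq : ((ρ u).1 - 1) ^ 2 = 0) : False := by
  have h0 : (ρ u).1 - 1 ≠ 0 := fun e => b.ne_one ((map_eq_one_iff ρ hρ).1 (Units.ext (sub_eq_zero.1 e)))
  have : Nontrivial V := not_subsingleton_iff_nontrivial.1 fun _ => h0 (Subsingleton.elim _ _)
  have se : SE p ρ.range (zpowers (ρ u)) ((normalizer (zpowers u : Set H)).map ρ) := by
    rw [← MonoidHom.map_zpowers]
    refine ⟨b.pg.map ρ, map_le_range _ _, by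
      rw [MonoidHom.range_eq_map, relIndex_map_map_of_injective _ _ hρ, relIndex_top_right]; exact b.not_dvd, map_le_range _ _,
      fun l => b.nn (normalizer_eq_top_iff.1 ((eq_top_iff' _).2 fun g => (mem_map_iff_mem hρ).1 (l ⟨g, rfl⟩))), ?_⟩
    rintro _ ⟨g, rfl⟩ _ ⟨x, hx, rfl⟩ x1 _ ⟨y, hy, rfl⟩ y1 ⟨K, pK, m, m'⟩
    have e : zpowers u = K.comap ρ := by
      refine eq_of_le_of_card_ge (hb_gen b.ord hx (by rintro rfl; simp at x1) ▸ zpowers_le.2 m) ?_
      obtain ⟨k, e⟩ := (pK.comap_of_injective ρ hρ).exists_card_eq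
      rw [e, Nat.card_zpowers, b.ord]
      refine (Nat.pow_le_pow_right hp.out.pos (show k ≤ 1 from by_contra fun a => b.sq ?_)).trans (pow_one p).le
      exact (pow_dvd_pow p (by omega)).trans (e ▸ card_subgroup_dvd_card _)
    refine ⟨g, mem_normalizer_fintype fun r j => ?_, rfl⟩
    obtain ⟨k, rfl⟩ := (hb_gen b.ord hy (by rintro rfl; simp at y1)).ge j
    exact conj_zpow (i := k) (a := g) (b := y) ▸ zpow_mem (e.ge (show ρ _ ∈ K by simpa using m')) k
  obtain ⟨_, ⟨g, rfl⟩, ε, e1, e2, e3, e4, -⟩ := se.exists_invol (mem_zpowers _) rfl h0 (by rwa [← pow_two]) h5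
  obtain ⟨α, eα⟩ : ∃ α, (ρ u).1 = 1 + α := ⟨(ρ u).1 - 1, by abel⟩
  rw [eα, add_sub_cancel_left] at e2 e3 h0
  obtain ⟨k, e⟩ := b.cen g (hρ (Units.ext (by
    rw [map_mul, map_mul, Units.val_mul, Units.val_mul, e1, eα]
    simp only [two_mul, mul_add, add_mul, mul_sub, sub_mul, mul_one, one_mul, e2, e3]
    abel)))
  have g2 : g ^ 2 = 1 := hρ (Units.ext (by
    rw [map_pow, map_one, Units.val_pow_eq_pow_val, e1, Units.val_one, pow_two]
    simp only [two_mul, mul_add, add_mul, mul_sub, sub_mul, mul_one, one_mul, e4]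
    abel))
  have gp : g ^ p = 1 := by rw [← e, ← zpow_natCast, ← zpow_mul, mul_comm, zpow_mul, zpow_natCast, b.pow_p, one_zpow]
  have c : Nat.Coprime 2 p := (Nat.coprime_primes Nat.prime_two hp.out).2 (by omega)
  have g1 : g = 1 := by rw [← pow_one g, ← c.gcd_eq_one]; exact pow_gcd_eq_one.2 ⟨g2, gp⟩
  rw [g1, map_one, Units.val_one, eq_comm, sub_eq_self] at e1
  have : (2 : ZMod p) • α = 0 := by rw [two_smul, ← two_mul, ← e2, ← mul_assoc, e1, zero_mul]
  exact h0 ((smul_eq_zero.1 this).resolve_left fun e => (Nat.coprime_comm.1 c |> hp.out.coprime_iff_not_dvd.1)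
    ((ZMod.natCast_eq_zero_iff 2 p).1 e))

/-- With `x = (ρ u).1`: `∑ i < p, x ^ i = (x - 1) ^ (p - 1) = 0` (in `(ZMod p)[X]`:
`geom_sum_mul`, `sub_pow_char`). For `0 < i < p` the map `r ↦ r * u ^ i * r⁻¹ * (u ^ i)⁻¹` is an
injective map `R → R` (an element of `R` commuting with `u ^ i` commutes with `u`, lies in
`zpowers u ⊓ R = ⊥`), hence bijective: `∑ r, ρ r * x ^ i * ρ r⁻¹ = S * x ^ i`, `S = ∑ r, ρ r`.
Summing over `0 < i < p` gives `S = |R| • 1`. From `ρ r * S = S` get `ρ r = 1`. -/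
theorem HA.hb (b : HA p u) (hρ : Function.Injective ρ) (hq : ((ρ u).1 - 1) ^ (p - 1) = 0) :
    HB p u := by
  refine ⟨b, fun R d n => ?_⟩
  classical
  have := Fintype.ofFinite R
  have z : ∑ i ∈ Finset.range p, (ρ u).1 ^ i = 0 := by
    have : ∑ i ∈ Finset.range p, (Polynomial.X : Polynomial (ZMod p)) ^ i = (Polynomial.X - 1) ^ (p - 1) :=
      mul_right_cancel₀ (Polynomial.X_sub_C_ne_zero 1) (by
        rw [map_one, geom_sum_mul, ← pow_succ, Nat.sub_add_cancel hp.out.one_le, sub_pow_char, one_pow])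
    simpa [hq] using congrArg (Polynomial.aeval (ρ u).1) this
  have k : ∀ i ∈ Finset.range (p - 1), ∑ r : R, (ρ r).1 * (ρ u).1 ^ (i + 1) * (ρ r⁻¹).1 = (∑ r : R, (ρ r).1) * (ρ u).1 ^ (i + 1) := by
    intro i hi
    have n1 : u ^ (i + 1) ≠ 1 := pow_ne_one_of_lt_orderOf i.succ_ne_zero (by rw [b.ord]; simp at hi; omega)
    have e := hb_gen b.ord (pow_mem (mem_zpowers u) _) n1
    let f : R → R := fun r => ⟨r * (u ^ (i + 1) * r⁻¹ * (u ^ (i + 1))⁻¹),
      mul_mem r.2 ((mem_normalizer_iff.1 (hb_norm n (pow_mem (mem_zpowers u) _)) _).1 (inv_mem r.2))⟩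
    have inj : Function.Injective f := fun r s c => by
      replace c : Commute ((s : H)⁻¹ * r) (u ^ (i + 1)) := by
        rw [Commute, SemiconjBy, ← mul_inv_eq_iff_eq_mul, mul_assoc, mul_assoc, inv_mul_eq_iff_eq_mul]
        have : r * (u ^ (i + 1) * (r : H)⁻¹ * (u ^ (i + 1))⁻¹) = s * (u ^ (i + 1) * (s : H)⁻¹ * (u ^ (i + 1))⁻¹) := congrArg Subtype.val c
        rw [← mul_assoc, ← mul_assoc, ← mul_assoc, ← mul_assoc, mul_left_inj, mul_inv_eq_iff_eq_mul] at this
        rw [← mul_assoc, this]; group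
      obtain ⟨k, g⟩ := e.ge (mem_zpowers u)
      have m := b.cen _ (by simpa only [show (u ^ (i + 1)) ^ k = u from g] using (c.zpow_right k).eq)
      by_contra a
      have := card_dvd_of_le (zpowers_le.2 (mul_mem (inv_mem s.2) r.2))
      rw [hb_gen b.ord m fun e => a (Subtype.ext (inv_mul_eq_one.1 e).symm), Nat.card_zpowers, b.ord] at this
      exact d this
    rw [← (Finite.injective_iff_bijective.1 inj).sum_comp fun r : R => (ρ r).1, Finset.sum_mul]
    refine Finset.sum_congr rfl fun r _ => ?_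
    rw [← Units.val_pow_eq_pow_val, ← map_pow, ← Units.val_mul, ← Units.val_mul, ← Units.val_mul, ← map_mul, ← map_mul, ← map_mul]
    exact congrArg (fun x => (ρ x).1) (by simp [f, mul_assoc])
  have s : ∑ r : R, (ρ r).1 = (Fintype.card R : ZMod p) • 1 := by
    replace z : ∑ i ∈ Finset.range (p - 1 + 1), (ρ u).1 ^ i = 0 := by rwa [Nat.sub_add_cancel hp.out.one_le]
    have a : ∑ r : R, (ρ r).1 * (∑ i ∈ Finset.range (p - 1 + 1), (ρ u).1 ^ i) * (ρ r⁻¹).1 = 0 := by simp [z]
    rw [Finset.sum_range_succ', pow_zero] at z a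
    simp only [mul_add, add_mul, Finset.mul_sum, Finset.sum_mul, Finset.sum_add_distrib] at a
    rw [Finset.sum_comm, Finset.sum_congr rfl k, ← Finset.mul_sum, eq_neg_of_add_eq_zero_left z, mul_neg_one,
      neg_add_eq_zero] at a
    rw [a, Finset.sum_congr rfl fun r _ => show _ = (1 : End (ZMod p) V) by
      rw [mul_one, ← Units.val_mul, ← map_mul]; simp]
    simp [Nat.cast_smul_eq_nsmul]
  refine eq_bot_iff.2 fun r m => (map_eq_one_iff ρ hρ).1 (Units.ext ?_)
  have a : (ρ r).1 * ∑ r : R, (ρ r).1 = ∑ r : R, (ρ r).1 := by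
    rw [Finset.mul_sum, ← Equiv.sum_comp (Equiv.mulLeft (⟨r, m⟩ : R)) fun r : R => (ρ r).1]
    simp
  rw [s, mul_smul_comm, mul_one] at a
  exact smul_right_injective _ (fun e => d (by rwa [ZMod.natCast_eq_zero_iff, ← Nat.card_eq_fintype_card] at e)) a

end Cfsg.Lib.MXE
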